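import Mathlib

/-!
Incidence relations: finitely many blocks, any two of which meet in exactly `h` points.
-/

open scoped Classical

noncomputable section

namespace Groth.Agent.HarbLib

universe u v

variable {P : Type u} {ι : Type v} [Fintype ι] (inc : P → ι → Prop) (h : ℕ)
  (hfin : ∀ i j : ι, i ≠ j → {p : P | inc p i ∧ inc p j}.Finite)
  (hcount : ∀ i j : ι, i ≠ j → {p : P | inc p i ∧ inc p j}.ncard = h)

/-- the multiple points -/
def mult : Set P := {p : P | 2 ≤ Nat.card {j : ι // inc p j}}

omit [Fintype ι] in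
lemma natCard_eq (p : P) [Fintype ι] :
    Nat.card {j : ι // inc p j} = (Finset.univ.filter fun j => inc p j).card := by
  rw [Nat.card_eq_fintype_card, Fintype.card_subtype]

lemma exists_pair_of_mem_mult {p : P} (hp : p ∈ mult inc) :
    ∃ i j, i ≠ j ∧ inc p i ∧ inc p j := by
  have h1 : 1 < (Finset.univ.filter fun j => inc p j).card := by
    rw [← natCard_eq]; exact hp
  obtain ⟨i, hi, j, hj, hij⟩ := Finset.one_lt_card.1 h1
  exact ⟨i, j, hij, (Finset.mem_filter.1 hi).2, (Finset.mem_filter.1 hj).2⟩

lemma mem_mult_of_pair {p : P} {i j : ι} (hij : i ≠ j) (hi : inc p i) (hj : inc p j) :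
    p ∈ mult inc := by
  show 1 < Nat.card {j : ι // inc p j}
  rw [natCard_eq]
  exact Finset.one_lt_card.2 ⟨i, by simp [hi], j, by simp [hj], hij⟩

include hfin in
lemma mult_finite : (mult inc).Finite := by
  refine ((Set.finite_univ (α := ι)).biUnion (fun i _ =>
    (Set.toFinite {j : ι | i ≠ j}).biUnion (fun j hj => hfin i j hj))).subset ?_
  intro p hp
  obtain ⟨i, j, hij, hi, hj⟩ := exists_pair_of_mem_mult inc hp
  simp only [Set.mem_iUnion]
  exact ⟨i, trivial, j, hij, hi, hj⟩

include hfin hcount in
lemma card_inter (i j : ι) (hij : i ≠ j) :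
    ((mult_finite inc hfin).toFinset.filter fun p => inc p i ∧ inc p j).card = h := by
  rw [← hcount i j hij, Set.ncard_eq_toFinset_card _ (hfin i j hij)]
  congr 1
  ext p
  simp only [Finset.mem_filter, Set.Finite.mem_toFinset, Set.mem_ofPred_eq]
  exact ⟨fun x => x.2, fun x => ⟨mem_mult_of_pair inc hij x.1 x.2, x⟩⟩

include hfin hcount in
lemma sum_row (i : ι) :
    ∑ p ∈ (mult_finite inc hfin).toFinset.filter (fun p => inc p i),
      (Nat.card {j : ι // inc p j} - 1) = h * (Fintype.card ι - 1) := by
  have h1 : ∀ p ∈ (mult_finite inc hfin).toFinset.filter (fun p => inc p i),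
      Nat.card {j : ι // inc p j} - 1 = ∑ j ∈ Finset.univ.erase i, if inc p j then 1 else 0 := by
    intro p hp
    rw [natCard_eq, Finset.sum_boole, ← Finset.card_erase_of_mem
      (s := Finset.univ.filter fun j => inc p j) (a := i) (by simp [(Finset.mem_filter.1 hp).2]),
      Finset.filter_erase]
    simp
  rw [Finset.sum_congr rfl h1, Finset.sum_comm]
  rw [Finset.sum_congr rfl (g := fun _ => h) (fun j hj => ?_)]
  · simp [mul_comm]
  · rw [Finset.sum_boole, Finset.filter_filter, Nat.cast_id]
    exact card_inter inc h hfin hcount i j (Finset.ne_of_mem_erase hj).symm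

include hfin hcount in
lemma row_finsum (i : ι) :
    ∑ᶠ p ∈ {p : P | inc p i}, (Nat.card {j : ι // inc p j} - 1) = h * (Fintype.card ι - 1) := by
  rw [← sum_row inc h hfin hcount i, finsum_mem_eq_sum_of_inter_support_eq]
  ext p
  simp only [Set.mem_inter_iff, Set.mem_ofPred_eq, Function.mem_support, Finset.coe_filter,
    Set.Finite.mem_toFinset]
  constructor
  · rintro ⟨hi, hp⟩
    exact ⟨⟨by show 2 ≤ _; omega, hi⟩, hp⟩
  · rintro ⟨⟨_, hi⟩, hp⟩
    exact ⟨hi, hp⟩

include hfin hcount in
lemma sum_all :
    ∑ p ∈ (mult_finite inc hfin).toFinset,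
      Nat.card {j : ι // inc p j} * (Nat.card {j : ι // inc p j} - 1) =
      h * (Fintype.card ι * (Fintype.card ι - 1)) := by
  have h1 : ∀ p, Nat.card {j : ι // inc p j} * (Nat.card {j : ι // inc p j} - 1) =
      ∑ i, if inc p i then Nat.card {j : ι // inc p j} - 1 else 0 := by
    intro p
    rw [← Finset.sum_filter, Finset.sum_const, smul_eq_mul, ← natCard_eq]
  rw [Finset.sum_congr rfl (fun p _ => h1 p), Finset.sum_comm]
  simp only [← Finset.sum_filter, sum_row inc h hfin hcount, Finset.sum_const, smul_eq_mul,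
    Finset.card_univ]
  ring

include hfin hcount in
lemma sum_mult_stratified :
    ∑ k ∈ Finset.Icc 2 (Fintype.card ι),
      k * (k - 1) * Nat.card {p : P // Nat.card {j : ι // inc p j} = k} =
      h * (Fintype.card ι * (Fintype.card ι - 1)) := by
  rw [← sum_all inc h hfin hcount]
  rw [← Finset.sum_fiberwise_of_maps_to (t := Finset.Icc 2 (Fintype.card ι))
    (g := fun p => Nat.card {j : ι // inc p j}) (fun p hp => ?_)]
  · refine Finset.sum_congr rfl (fun k hk => ?_)
    rw [Finset.sum_congr rfl (fun p hp => by rw [(Finset.mem_filter.1 hp).2])]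
    rw [Finset.sum_const, smul_eq_mul, mul_comm]
    congr 1
    show Nat.card ↥{p : P | Nat.card {j : ι // inc p j} = k} = _
    rw [Nat.card_coe_set_eq, ← Set.ncard_coe_finset]
    congr 1
    ext p
    simp only [Finset.coe_filter, Set.Finite.mem_toFinset, Set.mem_ofPred_eq]
    exact ⟨fun x => ⟨by show 2 ≤ _; rw [x]; exact (Finset.mem_Icc.1 hk).1, x⟩, fun x => x.2⟩
  · refine Finset.mem_Icc.2 ⟨(mult_finite inc hfin).mem_toFinset.1 hp, ?_⟩
    rw [natCard_eq]
    exact Finset.card_le_univ _

variable (hnone : ∀ p : P, ∃ i : ι, ¬ inc p i)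

include hfin hcount hnone in
/-- every block carries more than `h` multiple points -/
lemma lt_block (hh : 0 < h) (hd : 2 ≤ Fintype.card ι) (i : ι) :
    h < ((mult_finite inc hfin).toFinset.filter fun p => inc p i).card := by
  obtain ⟨j, hj⟩ := Fintype.exists_ne_of_one_lt_card hd i
  have hsub : ∀ j, i ≠ j → ((mult_finite inc hfin).toFinset.filter fun p => inc p i ∧ inc p j) ⊆
      ((mult_finite inc hfin).toFinset.filter fun p => inc p i) := by
    intro j _ p hp
    simp only [Finset.mem_filter] at hp ⊢
    exact ⟨hp.1, hp.2.1⟩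
  by_contra hle
  rw [not_lt] at hle
  have heq : ∀ j, i ≠ j → ((mult_finite inc hfin).toFinset.filter fun p => inc p i ∧ inc p j) =
      ((mult_finite inc hfin).toFinset.filter fun p => inc p i) := fun j hj =>
    Finset.eq_of_subset_of_card_le (hsub j hj) (by rw [card_inter inc h hfin hcount i j hj]; exact hle)
  have hne : ((mult_finite inc hfin).toFinset.filter fun p => inc p i ∧ inc p j).Nonempty :=
    Finset.card_pos.1 (by rw [card_inter inc h hfin hcount i j hj.symm]; exact hh)
  obtain ⟨p, hp⟩ := hne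
  obtain ⟨k, hk⟩ := hnone p
  by_cases hik : i = k
  · subst hik; exact hk (Finset.mem_filter.1 hp).2.1
  · rw [heq j hj.symm, ← heq k hik] at hp
    exact hk (Finset.mem_filter.1 hp).2.2

include hfin hcount hnone in
lemma card_le_mult (hh : 0 < h) (hd : 2 ≤ Fintype.card ι) :
    Fintype.card ι ≤ Nat.card {p : P // 2 ≤ Nat.card {j : ι // inc p j}} := by
  change _ ≤ Nat.card ↥(mult inc)
  rw [Nat.card_coe_set_eq, Set.ncard_eq_toFinset_card _ (mult_finite inc hfin),
    ← Fintype.card_coe]
  let v : ι → ((mult_finite inc hfin).toFinset → ℝ) := fun i p => if inc p i then 1 else 0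
  have hli : LinearIndependent ℝ v := by
    rw [Fintype.linearIndependent_iff]
    intro c hc
    let r : ι → ℕ := fun i => ((mult_finite inc hfin).toFinset.filter fun p => inc p i).card
    have hG : ∀ i j, ∑ p, v i p * v j p = if i = j then (r i : ℝ) else h := by
      intro i j
      simp only [v, ite_mul, one_mul, zero_mul, ← ite_and]
      rw [Finset.sum_boole, ← Finset.card_map (Function.Embedding.subtype _)]
      split_ifs with e
      · subst e
        congr 2
        ext p; simp [and_comm]
      · rw [← card_inter inc h hfin hcount i j e]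
        congr 2
        ext p
        simp [and_comm]
    have h0 : ∑ p, (∑ i, c i * v i p) ^ 2 = 0 := by
      refine Finset.sum_eq_zero (fun p _ => ?_)
      have := congr_fun hc p
      simp only [Finset.sum_apply, Pi.smul_apply, smul_eq_mul, Pi.zero_apply] at this
      rw [this]; ring
    have h1 : (h : ℝ) * (∑ i, c i) ^ 2 + ∑ i, c i ^ 2 * ((r i : ℝ) - h) = 0 := by
      rw [← h0]
      have hsq : ∀ q, (∑ i, c i * v i q) ^ 2 = ∑ i, ∑ j, c i * c j * (v i q * v j q) := fun q => by
        rw [sq, Finset.sum_mul_sum]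
        exact Finset.sum_congr rfl fun i _ => Finset.sum_congr rfl fun j _ => by ring
      rw [Finset.sum_congr rfl (fun q _ => hsq q), Finset.sum_comm]
      rw [sq, Finset.sum_mul_sum, Finset.mul_sum, ← Finset.sum_add_distrib]
      refine Finset.sum_congr rfl (fun i _ => ?_)
      rw [Finset.sum_comm (f := fun q j => c i * c j * (v i q * v j q))]
      simp only [← Finset.mul_sum (s := (Finset.univ : Finset ↥((mult_finite inc hfin).toFinset))), hG]
      rw [show c i ^ 2 * ((r i : ℝ) - h) = ∑ j, if i = j then c i * c j * ((r i : ℝ) - h) else 0 by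
        simp [sq], Finset.mul_sum, ← Finset.sum_add_distrib]
      refine Finset.sum_congr rfl (fun j _ => ?_)
      split_ifs with e
      · subst e; ring
      · ring
    intro i
    have hpos : ∀ i, (0 : ℝ) < (r i : ℝ) - h := fun i => by
      have := lt_block inc h hfin hcount hnone hh hd i
      rw [sub_pos]; exact_mod_cast this
    have hnn : ∀ i ∈ Finset.univ, (0 : ℝ) ≤ c i ^ 2 * ((r i : ℝ) - h) :=
      fun i _ => mul_nonneg (sq_nonneg _) (hpos i).le
    have h2 : ∑ i, c i ^ 2 * ((r i : ℝ) - h) = 0 := by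
      linarith [Finset.sum_nonneg hnn, mul_nonneg (Nat.cast_nonneg (α := ℝ) h) (sq_nonneg (∑ i, c i))]
    have := (Finset.sum_eq_zero_iff_of_nonneg hnn).1 h2 i (Finset.mem_univ i)
    simpa [(hpos i).ne'] using this
  have := hli.fintype_card_le_finrank
  rwa [Module.finrank_fintype_fun_eq_card] at this

include hfin hcount hnone in
lemma add_two_le_mult (hh : 0 < h) (hd : 2 ≤ Fintype.card ι) :
    h + 2 ≤ Nat.card {p : P // 2 ≤ Nat.card {j : ι // inc p j}} := by
  change _ ≤ Nat.card ↥(mult inc)
  rw [Nat.card_coe_set_eq, Set.ncard_eq_toFinset_card _ (mult_finite inc hfin)]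
  obtain ⟨i⟩ : Nonempty ι := Fintype.card_pos_iff.1 (by omega)
  have h1 := lt_block inc h hfin hcount hnone hh hd i
  by_contra hlt
  have hall : (mult_finite inc hfin).toFinset.filter (fun p => inc p i) =
      (mult_finite inc hfin).toFinset :=
    Finset.eq_of_subset_of_card_le (Finset.filter_subset _ _) (by omega)
  obtain ⟨j, hj⟩ := Fintype.exists_ne_of_one_lt_card hd i
  have hon : ∀ k l, k ≠ l → ∀ p, inc p k → inc p l → inc p i := by
    intro k l hkl p hk hl
    have : p ∈ (mult_finite inc hfin).toFinset.filter (fun p => inc p i) := by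
      rw [hall]; exact (mult_finite inc hfin).mem_toFinset.2 (mem_mult_of_pair inc hkl hk hl)
    exact (Finset.mem_filter.1 this).2
  obtain ⟨p, hp⟩ : ((mult_finite inc hfin).toFinset.filter fun p => inc p i ∧ inc p j).Nonempty :=
    Finset.card_pos.1 (by rw [card_inter inc h hfin hcount i j hj.symm]; exact hh)
  obtain ⟨k, hk⟩ := hnone p
  have hp' := (Finset.mem_filter.1 hp).2
  have hki : k ≠ i := fun e => hk (e ▸ hp'.1)
  have hkj : k ≠ j := fun e => hk (e ▸ hp'.2)
  have hsub : ((mult_finite inc hfin).toFinset.filter fun p => inc p j ∧ inc p k) ⊆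
      ((mult_finite inc hfin).toFinset.filter fun p => inc p i ∧ inc p j) := by
    intro q hq
    simp only [Finset.mem_filter] at hq ⊢
    exact ⟨hq.1, hon j k hkj.symm q hq.2.1 hq.2.2, hq.2.1⟩
  have := Finset.eq_of_subset_of_card_le hsub (by
    rw [card_inter inc h hfin hcount i j hj.symm, card_inter inc h hfin hcount j k hkj.symm])
  rw [← this] at hp
  exact hk (Finset.mem_filter.1 hp).2.2

end Groth.Agent.HarbLib
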